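import Mathlib

/-!
The tensor product with an algebraically closed base field and a finite extension, when reduced, is a field.
-/

set_option autoImplicit false
set_option linter.style.haveILetI false
set_option backward.isDefEq.respectTransparency false

universe u

open TensorProduct Polynomial

namespace Groth.Agent.H06ConstDeg

variable {k K : Type u} [Field k] [Field K] [Algebra k K]

/-- Irreducible polynomials stay irreducible. -/
theorem irreducible_map (hcl : ∀ x : K, IsIntegral k x → x ∈ (algebraMap k K).range) {p : k[X]} (hp : p.Monic)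
    (hirr : Irreducible p) : Irreducible (p.map (algebraMap k K)) := by
  have hinj : Function.Injective (algebraMap k K) := (algebraMap k K).injective
  have lift : ∀ g : K[X], g.Monic → g ∣ p.map (algebraMap k K) → ∃ g₀ : k[X], g₀.map (algebraMap k K) = g := by
    intro g hg hdvd
    have h1 := integralClosure.mem_lifts_of_monic_of_dvd_map K hp hg hdvd
    rw [lifts_iff_coeff_lifts] at h1
    refine (Polynomial.mem_lifts _).1 ((lifts_iff_coeff_lifts g).2 fun n => ?_)
    obtain ⟨c, hc⟩ := h1 n
    exact hcl _ (hc ▸ c.2)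
  refine ((hp.map _).irreducible_iff_natDegree).2 ⟨fun h => ?_, fun f g hf hg hfg => ?_⟩
  · have : p.natDegree = 0 := by
      rw [← natDegree_map_eq_of_injective hinj p, h, natDegree_one]
    exact hirr.natDegree_pos.ne' this
  · obtain ⟨f₀, rfl⟩ := lift f hf (hfg ▸ dvd_mul_right f g)
    obtain ⟨g₀, rfl⟩ := lift g hg (hfg ▸ dvd_mul_left g _)
    have hfg₀ : f₀ * g₀ = p := map_injective _ hinj (by rw [Polynomial.map_mul, hfg])
    have hf₀ : f₀.Monic := monic_of_injective hinj hf
    have hg₀ : g₀.Monic := monic_of_injective hinj hg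
    rw [natDegree_map_eq_of_injective hinj, natDegree_map_eq_of_injective hinj]
    exact ((hp.irreducible_iff_natDegree).1 hirr).2 f₀ g₀ hf₀ hg₀ hfg₀

/-- The separable case. -/
theorem isField_tensor_of_separable (hcl : ∀ x : K, IsIntegral k x → x ∈ (algebraMap k K).range)
    (L : Type u) [Field L] [Algebra k L] [FiniteDimensional k L] [Algebra.IsSeparable k L] :
    IsField (K ⊗[k] L) := by
  obtain ⟨α, hα⟩ := Field.exists_primitive_element k L
  have hint : IsIntegral k α := Algebra.IsIntegral.isIntegral α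
  let β : K ⊗[k] L := (1 : K) ⊗ₜ[k] α
  let φ : K[X] →ₐ[K] K ⊗[k] L := aeval β
  haveI : Nontrivial (K ⊗[k] L) := inferInstance
  have hadj : Algebra.adjoin k {α} = ⊤ := by
    rw [← IntermediateField.adjoin_simple_toSubalgebra_of_isAlgebraic hint.isAlgebraic, hα, IntermediateField.top_toSubalgebra]
  have hsurj : Function.Surjective φ := by
    have hL : ∀ l : L, (1 : K) ⊗ₜ[k] l ∈ φ.range := fun l => by
      have hl : l ∈ Algebra.adjoin k {α} := hadj ▸ Algebra.mem_top
      induction hl using Algebra.adjoin_induction with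
      | mem x hx => rw [Set.mem_singleton_iff] at hx; subst hx; exact ⟨X, aeval_X β⟩
      | algebraMap r =>
        refine ⟨C (algebraMap k K r), (aeval_C β _).trans ?_⟩
        rw [Algebra.TensorProduct.algebraMap_apply, Algebra.algebraMap_self, RingHom.id_apply,
          Algebra.algebraMap_eq_smul_one, Algebra.algebraMap_eq_smul_one, TensorProduct.smul_tmul]
      | add x y _ _ hx hy => rw [TensorProduct.tmul_add]; exact add_mem hx hy
      | mul x y _ _ hx hy =>
        have := mul_mem hx hy
        rwa [Algebra.TensorProduct.tmul_mul_tmul, one_mul] at this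
    intro z
    induction z using TensorProduct.induction_on with
    | zero => exact ⟨0, map_zero _⟩
    | tmul c l =>
      obtain ⟨q, hq⟩ := hL l
      refine ⟨C c * q, ?_⟩
      rw [map_mul, show φ q = (1 : K) ⊗ₜ[k] l from hq, show φ (C c) = c ⊗ₜ[k] (1 : L) from aeval_C β c, Algebra.TensorProduct.tmul_mul_tmul, mul_one, one_mul]
    | add x y hx hy =>
      obtain ⟨a, rfl⟩ := hx
      obtain ⟨b, rfl⟩ := hy
      exact ⟨a + b, map_add _ _ _⟩
  have hker : (minpoly k α).map (algebraMap k K) ∈ RingHom.ker φ.toRingHom := by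
    rw [RingHom.mem_ker]
    show aeval β ((minpoly k α).map (algebraMap k K)) = 0
    rw [aeval_map_algebraMap]
    show aeval (Algebra.TensorProduct.includeRight (R := k) (A := K) (B := L) α) (minpoly k α) = 0
    rw [aeval_algHom_apply, minpoly.aeval, map_zero]
  have hmax : (Ideal.span {(minpoly k α).map (algebraMap k K)}).IsMaximal :=
    PrincipalIdealRing.isMaximal_of_irreducible (irreducible_map hcl (minpoly.monic hint) (minpoly.irreducible hint))
  have hk : RingHom.ker φ.toRingHom = Ideal.span {(minpoly k α).map (algebraMap k K)} :=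
    (hmax.eq_of_le (RingHom.ker_ne_top _) ((Ideal.span_singleton_le_iff_mem _).2 hker)).symm
  haveI : (RingHom.ker φ.toRingHom).IsMaximal := hk ▸ hmax
  exact (RingHom.quotientKerEquivOfSurjective (f := φ.toRingHom) hsurj).symm.toMulEquiv.isField
    ((Ideal.Quotient.maximal_ideal_iff_isField_quotient _).1 ‹_›)

theorem isField_tensor_aux (L L₀ : Type u) [Field L] [Algebra k L] [FiniteDimensional k L] [IsReduced (K ⊗[k] L)]
    [Field L₀] [Algebra k L₀] [Algebra L₀ L] [IsScalarTower k L₀ L] [IsPurelyInseparable L₀ L]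
    (h0 : IsField (K ⊗[k] L₀)) : IsField (K ⊗[k] L) := by
  haveI : Nontrivial (K ⊗[k] L) := inferInstance
  let ι : K ⊗[k] L₀ →ₐ[K] (K ⊗[k] L) := Algebra.TensorProduct.map (AlgHom.id K K) (IsScalarTower.toAlgHom k L₀ L)
  let q := ringExpChar k
  haveI : ExpChar (K ⊗[k] L) q := expChar_of_injective_ringHom (algebraMap k (K ⊗[k] L)).injective q
  haveI : ExpChar L₀ q := expChar_of_injective_ringHom (algebraMap k L₀).injective q
  have key : ∀ z : (K ⊗[k] L), ∃ (n : ℕ) (w : K ⊗[k] L₀), z ^ q ^ n = ι w := fun z => by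
    induction z using TensorProduct.induction_on with
    | zero => exact ⟨0, 0, by rw [pow_zero, pow_one, map_zero]⟩
    | tmul c l =>
      obtain ⟨n, l₀, hl⟩ := IsPurelyInseparable.pow_mem L₀ q l
      refine ⟨n, (c ^ q ^ n) ⊗ₜ[k] l₀, ?_⟩
      rw [Algebra.TensorProduct.tmul_pow]
      show _ = (c ^ q ^ n) ⊗ₜ[k] (algebraMap L₀ L l₀)
      rw [hl]
    | add x y hx hy =>
      obtain ⟨n, a, ha⟩ := hx
      obtain ⟨m, b, hb⟩ := hy
      refine ⟨n + m, a ^ q ^ m + b ^ q ^ n, ?_⟩
      rw [add_pow_expChar_pow, pow_add q n m, pow_mul, ha, mul_comm (q ^ n), pow_mul, hb, map_add, map_pow, map_pow]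
  haveI : IsArtinianRing (K ⊗[k] L) := IsArtinianRing.of_finite K (K ⊗[k] L)
  refine ⟨exists_pair_ne (K ⊗[k] L), mul_comm, fun {z} hz => ?_⟩
  obtain ⟨n, y, hy⟩ := IsArtinian.exists_pow_succ_smul_dvd z (1 : (K ⊗[k] L))
  rw [smul_eq_mul, smul_eq_mul, mul_one] at hy
  have hnil : z * (1 - y * z) = 0 := IsReduced.eq_zero _ ⟨n + 1, by
    have h1 : z ^ n * (1 - y * z) = 0 := by
      have : z ^ n.succ * y = z ^ n := hy
      rw [mul_sub, mul_one, ← sub_eq_zero.2 this.symm, pow_succ]
      ring
    rw [mul_pow, pow_succ z n, pow_succ (1 - y * z) n]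
    linear_combination z * (1 - y * z) ^ n * h1⟩
  have he : IsIdempotentElem (y * z) := by
    show y * z * (y * z) = y * z
    linear_combination -y * hnil
  obtain ⟨m, w, hw⟩ := key (y * z)
  have hpow : (y * z) ^ q ^ m = y * z :=
    he.pow_eq (Nat.pow_pos (expChar_pos (K ⊗[k] L) q) |>.ne')
  rw [hpow] at hw
  have hιinj : Function.Injective ι :=
    Module.Flat.lTensor_preserves_injective_linearMap (IsScalarTower.toAlgHom k L₀ L).toLinearMap (algebraMap L₀ L).injective
  have hw2 : IsIdempotentElem w := hιinj (by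
    show ι (w * w) = ι w
    rw [map_mul, ← hw, he.eq])
  obtain rfl | rfl : w = 0 ∨ w = 1 := by
    haveI : NoZeroDivisors (K ⊗[k] L₀) := h0.isDomain.to_noZeroDivisors
    rcases mul_eq_zero.1 (show w * (w - 1) = 0 by rw [mul_sub, mul_one, hw2.eq, sub_self]) with h | h
    · exact Or.inl h
    · exact Or.inr (sub_eq_zero.1 h)
  · rw [map_zero] at hw
    exact absurd (by linear_combination hnil + z * hw : z = 0) hz
  · rw [map_one] at hw
    exact ⟨y, by rw [mul_comm]; exact hw⟩

/-- A reduced tensor product with a finite extension is a field. -/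
theorem isField_tensor (hcl : ∀ x : K, IsIntegral k x → x ∈ (algebraMap k K).range)
    (L : Type u) [Field L] [Algebra k L] [FiniteDimensional k L] [IsReduced (K ⊗[k] L)] :
    IsField (K ⊗[k] L) :=
  isField_tensor_aux L (separableClosure k L) (isField_tensor_of_separable hcl _)

end Groth.Agent.H06ConstDeg
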