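import Groth.Agent.H06ConstDeg.Field
import Groth.Agent.H22Alg.GeomReducedAt
import Groth.Agent.H7Lim.NormalizationNormal

/-!
The degree of the field of constants divides the degree of a finite surjective morphism.
-/

set_option autoImplicit false
set_option linter.style.haveILetI false
set_option backward.isDefEq.respectTransparency false

universe u

open AlgebraicGeometry CategoryTheory CategoryTheory.Limits TensorProduct

namespace Groth.Agent.H06ConstDeg

variable {X : Scheme.{u}}

/-- The stalk tensor is reduced. -/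
theorem isReduced_stalk_tensor (x : X) (E : Type u) [Field E] [Algebra Γ(X, ⊤) E]
    [AlgebraicGeometry.IsReduced (pullback X.toSpecΓ (Spec.map (CommRingCat.ofHom (algebraMap Γ(X, ⊤) E))))] :
    letI := (X.presheaf.Γgerm x).hom.toAlgebra
    _root_.IsReduced (X.presheaf.stalk x ⊗[Γ(X, ⊤)] E) := by
  letI := (X.presheaf.Γgerm x).hom.toAlgebra
  let σ : Spec (CommRingCat.of E) ⟶ Spec Γ(X, ⊤) := Spec.map (CommRingCat.ofHom (algebraMap Γ(X, ⊤) E))
  haveI : ∀ e, _root_.IsReduced ((pullback (X.fromSpecStalk x ≫ X.toSpecΓ) σ).presheaf.stalk e) := fun e =>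
    (H22Alg.GeomReducedAt.isReduced_stalk_iff X.toSpecΓ σ x e).2 inferInstance
  haveI : AlgebraicGeometry.IsReduced (pullback (X.fromSpecStalk x ≫ X.toSpecΓ) σ) := isReduced_of_isReduced_stalk _
  let m := pullback.map (Spec.map (CommRingCat.ofHom (algebraMap Γ(X, ⊤) (X.presheaf.stalk x)))) σ
    (X.fromSpecStalk x ≫ X.toSpecΓ) σ (𝟙 _) (𝟙 _) (𝟙 _)
    (by rw [Category.comp_id, Category.id_comp, Scheme.fromSpecStalk_toSpecΓ]; rfl)
    (by rw [Category.comp_id, Category.id_comp])
  haveI : AlgebraicGeometry.IsReduced (Spec (CommRingCat.of (X.presheaf.stalk x ⊗[Γ(X, ⊤)] E))) :=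
    isReduced_of_isOpenImmersion ((pullbackSpecIso Γ(X, ⊤) (X.presheaf.stalk x) E).inv ≫ m)
  exact (affine_isReduced_iff _).1 this

theorem bijective_residue [IsIntegral X] : Function.Bijective (X.residue (genericPoint X)).hom :=
  ⟨(show X.functionField →+* X.residueField (genericPoint X) from (X.residue (genericPoint X)).hom).injective,
    IsLocalRing.residue_surjective⟩

theorem mem_range_of_isIntegral [IsIntegral X] (hN : ∀ x : X, IsIntegrallyClosed (X.presheaf.stalk x)) :
    letI := (X.presheaf.Γgerm (genericPoint X) ≫ X.residue (genericPoint X)).hom.toAlgebra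
    ∀ z : X.residueField (genericPoint X), _root_.IsIntegral Γ(X, ⊤) z →
      z ∈ (algebraMap Γ(X, ⊤) (X.residueField (genericPoint X))).range := by
  letI := (X.presheaf.Γgerm (genericPoint X) ≫ X.residue (genericPoint X)).hom.toAlgebra
  intro z hz
  obtain ⟨z₀, rfl⟩ := bijective_residue.2 z
  obtain ⟨P, hP, hPz⟩ := hz
  obtain ⟨w, hw⟩ := H7Lim.exists_germ_eq_of_isIntegralElem hN (O := ⊤) (z := z₀) trivial ⟨P, hP, bijective_residue.1 (by
    rw [map_zero, Polynomial.hom_eval₂]
    exact hPz)⟩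
  exact ⟨w, congrArg (X.residue (genericPoint X)) hw⟩

theorem dvd_degree_aux {k' K M L : Type u} [Field k'] [Field K] [Field M] [Field L] [Algebra k' K] [Algebra k' L]
    [Algebra L M] [Algebra K M] [Algebra k' M] [IsScalarTower k' K M] [IsScalarTower k' L M] [FiniteDimensional k' L]
    [_root_.IsReduced (K ⊗[k'] L)] (hcl : ∀ x : K, _root_.IsIntegral k' x → x ∈ (algebraMap k' K).range) :
    Module.finrank k' L ∣ Module.finrank K M := by
  have hT := isField_tensor hcl L
  let ψ : K ⊗[k'] L →ₐ[K] M := Algebra.TensorProduct.lift (Algebra.ofId K M) (IsScalarTower.toAlgHom k' L M)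
    fun _ _ => Commute.all _ _
  haveI : Nontrivial (K ⊗[k'] L) := inferInstance
  have hinj : Function.Injective ψ := by
    letI := hT.toField
    exact ψ.toRingHom.injective
  let N : IntermediateField K M := ψ.range.toIntermediateField fun x hx => by
    obtain ⟨a, rfl⟩ := hx
    by_cases ha : a = 0
    · subst ha; rw [map_zero, inv_zero]; exact zero_mem _
    obtain ⟨b, hb⟩ := hT.mul_inv_cancel ha
    refine ⟨b, eq_inv_of_mul_eq_one_right ?_⟩
    rw [← map_mul, hb, map_one]
  have hN : Module.finrank K N = Module.finrank k' L := by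
    have e : (K ⊗[k'] L) ≃ₗ[K] N := (AlgEquiv.ofInjective ψ hinj).toLinearEquiv
    rw [← e.finrank_eq, Module.finrank_baseChange]
  exact ⟨Module.finrank N M, by rw [← hN, Module.finrank_mul_finrank]⟩

theorem dvd_degree (k : Type u) [Field k]
    (X Z : Scheme.{u}) [X.Over (Spec (CommRingCat.of k))] [Z.Over (Spec (CommRingCat.of k))]
    [IsIntegral X] [IsIntegral Z]
    [IsProper (X ↘ Spec (CommRingCat.of k))] [IsProper (Z ↘ Spec (CommRingCat.of k))]
    (hXn : ∀ x : X, IsIntegrallyClosed (X.presheaf.stalk x))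
    (f : Z ⟶ X) (hf : f ≫ (X ↘ Spec (CommRingCat.of k)) = Z ↘ Spec (CommRingCat.of k))
    [Surjective f]
    (hgr : ∀ (E : Type u) [Field E] (i : Γ(X, ⊤) →+* E),
      AlgebraicGeometry.IsReduced (pullback X.toSpecΓ (Spec.map (CommRingCat.ofHom i))))
    (x : X) (hx : x = genericPoint X) (hxf : f (genericPoint Z) = x) :
    letI := f.appTop.hom.toAlgebra;
    letI := (f.residueFieldMap (genericPoint Z)).hom.toAlgebra;
    Module.finrank Γ(X, ⊤) Γ(Z, ⊤) ∣
      Module.finrank (X.residueField (f.base (genericPoint Z))) (Z.residueField (genericPoint Z)) := by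
  subst hxf
  letI := f.appTop.hom.toAlgebra
  letI := (f.residueFieldMap (genericPoint Z)).hom.toAlgebra
  let η := f (genericPoint Z)
  let K := X.residueField η
  let M := Z.residueField (genericPoint Z)
  letI : Field Γ(X, ⊤) := (isField_of_universallyClosed k (X ↘ Spec (CommRingCat.of k))).toField
  letI : Field Γ(Z, ⊤) := (isField_of_universallyClosed k (Z ↘ Spec (CommRingCat.of k))).toField
  haveI : Module.Finite Γ(X, ⊤) Γ(Z, ⊤) := by
    have h := finite_appTop_of_universallyClosed k (Z ↘ Spec (CommRingCat.of k))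
    rw [← hf, Scheme.Hom.comp_appTop] at h
    exact RingHom.Finite.of_comp_finite (f := (X ↘ Spec (CommRingCat.of k)).appTop.hom) (g := f.appTop.hom) h
  letI : Algebra Γ(X, ⊤) K := (X.presheaf.Γgerm η ≫ X.residue η).hom.toAlgebra
  letI : Algebra Γ(Z, ⊤) M := (Z.presheaf.Γgerm (genericPoint Z) ≫ Z.residue (genericPoint Z)).hom.toAlgebra
  letI : Algebra Γ(X, ⊤) M := ((algebraMap Γ(Z, ⊤) M).comp (algebraMap Γ(X, ⊤) Γ(Z, ⊤))).toAlgebra
  haveI : IsScalarTower Γ(X, ⊤) Γ(Z, ⊤) M := IsScalarTower.of_algebraMap_eq fun _ => rfl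
  haveI : IsScalarTower Γ(X, ⊤) K M := IsScalarTower.of_algebraMap_eq fun a =>
    (Scheme.Γevaluation_naturality_apply f (genericPoint Z) a).symm
  haveI : _root_.IsReduced (K ⊗[Γ(X, ⊤)] Γ(Z, ⊤)) := by
    haveI := hgr Γ(Z, ⊤) (algebraMap Γ(X, ⊤) Γ(Z, ⊤))
    letI : Algebra Γ(X, ⊤) (X.presheaf.stalk η) := (X.presheaf.Γgerm η).hom.toAlgebra
    haveI := isReduced_stalk_tensor η Γ(Z, ⊤)
    have hb : Function.Bijective (X.residue η).hom :=
      Eq.ndrec (motive := fun y : X => Function.Bijective (X.residue y).hom) bijective_residue hx.symm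
    let e : X.presheaf.stalk η ≃ₐ[Γ(X, ⊤)] K :=
      AlgEquiv.ofBijective { (X.residue η).hom with commutes' := fun _ => rfl } hb
    let e' := Algebra.TensorProduct.congr e (AlgEquiv.refl (R := Γ(X, ⊤)) (A₁ := Γ(Z, ⊤)))
    exact isReduced_of_injective e'.symm.toRingEquiv.toRingHom e'.symm.injective
  refine dvd_degree_aux (k' := Γ(X, ⊤)) (K := K) (M := M) (L := Γ(Z, ⊤)) ?_
  exact Eq.ndrec (motive := fun y : X =>
    letI := (X.presheaf.Γgerm y ≫ X.residue y).hom.toAlgebra
    ∀ z : X.residueField y, _root_.IsIntegral Γ(X, ⊤) z → z ∈ (algebraMap Γ(X, ⊤) (X.residueField y)).range)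
    (mem_range_of_isIntegral hXn) hx.symm

end Groth.Agent.H06ConstDeg
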